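/-
Finite facts about signed permutations of seven points, checked by computation.
-/
import Mathlib

set_option autoImplicit false
set_option maxRecDepth 4000

namespace Cfsg.Agent.Lib.FusionB3

open Equiv

attribute [local instance 10000] List.decidableBAll

/-- `(0 1)(2 3)`. -/
abbrev pa : Perm (Fin 7) := swap 0 1 * swap 2 3
/-- `(0 2)(1 3)`. -/
abbrev pb : Perm (Fin 7) := swap 0 2 * swap 1 3
/-- `(0 1)(4 5)`. -/
abbrev pc : Perm (Fin 7) := swap 0 1 * swap 4 5

/-- A Sylow 2-subgroup of `A_7`. -/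
def d8List : List (Perm (Fin 7)) := [1, pa, pb, pa * pb, pc, pa * pc, pb * pc, pa * pb * pc]

theorem mem_d8List_of : ∀ π : Perm (Fin 7), π 6 = 6 → π * pa = pa * π → Perm.sign π = 1 →
    π ∈ d8List := by decide +kernel

theorem d8List_spec : ∀ π ∈ d8List, π 6 = 6 ∧ π * pa = pa * π ∧ Perm.sign π = 1 := by
  decide +kernel

/-- Six free bits. -/
abbrev Bits : Type := Bool × Bool × Bool × Bool × Bool × Bool

/-- An even bit vector. -/
def bvec (t : Bits) : Fin 7 → Bool :=
  ![t.1, t.2.1, t.2.2.1, t.2.2.2.1, t.2.2.2.2.1, t.2.2.2.2.2,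
    xor t.1 (xor t.2.1 (xor t.2.2.1 (xor t.2.2.2.1 (xor t.2.2.2.2.1 t.2.2.2.2.2))))]

/-- All choices of six bits. -/
def bits : List Bits :=
  let l := [false, true]
  l.flatMap fun a => l.flatMap fun b => l.flatMap fun c => l.flatMap fun d => l.flatMap fun e =>
    l.map fun f => (a, b, c, d, e, f)

theorem mem_bits_all : ∀ t : Bits, t ∈ bits := by decide +kernel

theorem mem_bits (t : Bits) : t ∈ bits := mem_bits_all t

/-- Bits as signs. -/
def toS (v : Fin 7 → Bool) : Fin 7 → ℤˣ := fun i => if v i then -1 else 1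

theorem toS_apply_eq {v : Fin 7 → Bool} {i j : Fin 7} : toS v i = toS v j ↔ v i = v j := by
  unfold toS
  cases v i <;> cases v j <;> simp <;> decide

theorem toS_bvec_injective : Function.Injective fun t : Bits => toS (bvec t) := by
  intro s t h
  have h' : ∀ i, bvec s i = bvec t i := fun i => by
    have := congrFun h i
    simp only [toS] at this
    cases hs : bvec s i <;> cases ht : bvec t i <;> simp [hs, ht] at this ⊢ <;>
      exact absurd this (by decide)
  exact Prod.ext (h' 0) (Prod.ext (h' 1) (Prod.ext (h' 2) (Prod.ext (h' 3) (Prod.ext (h' 4) (h' 5)))))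

/-- The set of even sign vectors. -/
def evens : Finset (Fin 7 → ℤˣ) := (bits.map fun t => toS (bvec t)).toFinset

theorem exists_bits {ε : Fin 7 → ℤˣ} (h : ε ∈ evens) : ∃ t, toS (bvec t) = ε := by
  obtain ⟨t, -, ht⟩ := List.mem_map.1 (List.mem_toFinset.1 h)
  exact ⟨t, ht⟩

theorem card_evens : evens.card = 64 := by
  rw [evens, List.toFinset_card_of_nodup ((show bits.Nodup by decide +kernel).map toS_bvec_injective),
    List.length_map]
  decide +kernel

theorem prod_toS : ∀ t ∈ bits, ∏ i, toS (bvec t) i = 1 := by decide +kernel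

theorem mem_evens {ε : Fin 7 → ℤˣ} : ε ∈ evens ↔ ∏ i, ε i = 1 := by
  constructor
  · intro h
    obtain ⟨t, rfl⟩ := exists_bits h
    exact prod_toS t (mem_bits t)
  · intro h
    let b : Fin 7 → Bool := fun i => decide (ε i = -1)
    have hb : ∀ i, toS b i = ε i := fun i => by
      simp only [toS, b]
      rcases Int.units_eq_one_or (ε i) with e | e <;> simp [e]
    let t : Bits := (b 0, b 1, b 2, b 3, b 4, b 5)
    have hfirst : ∀ i : Fin 7, i ≠ 6 → toS (bvec t) i = ε i := by
      intro i hi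
      rw [← hb i]
      fin_cases i <;> first | rfl | exact absurd rfl hi
    have h6 : toS (bvec t) 6 = ε 6 := by
      have h' := prod_toS t (mem_bits t)
      rw [Fin.prod_univ_seven] at h h'
      rw [hfirst 0 (by decide), hfirst 1 (by decide), hfirst 2 (by decide), hfirst 3 (by decide),
        hfirst 4 (by decide), hfirst 5 (by decide), ← h] at h'
      exact mul_left_cancel h'
    refine List.mem_toFinset.2 (List.mem_map.2 ⟨t, mem_bits t, funext fun i => ?_⟩)
    by_cases hi : i = 6
    · rw [hi, h6]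
    · exact hfirst i hi

/-- Even sign vectors fixed by two permutations. -/
def fix2 (π σ : Perm (Fin 7)) : Finset (Fin 7 → ℤˣ) :=
  evens.filter fun ε => (∀ i, ε (π i) = ε i) ∧ ∀ i, ε (σ i) = ε i

/-- The bit vectors fixed by two permutations. -/
def fixBits (π σ : Perm (Fin 7)) : List Bits :=
  bits.filter fun t => (List.finRange 7).all fun i => bvec t (π i) == bvec t i && bvec t (σ i) == bvec t i

theorem fix2_card_le (π σ : Perm (Fin 7)) : (fix2 π σ).card ≤ (fixBits π σ).length := by
  refine le_trans (Finset.card_le_card ?_) ((List.toFinset_card_le _).trans_eq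
    (List.length_map (as := fixBits π σ) (fun t => toS (bvec t))))
  intro ε hε
  rw [fix2, Finset.mem_filter] at hε
  obtain ⟨t, rfl⟩ := exists_bits hε.1
  simp only [toS_apply_eq] at hε
  refine List.mem_toFinset.2 (List.mem_map.2 ⟨t, ?_, rfl⟩)
  simp [fixBits, mem_bits, hε.2.1, hε.2.2]

theorem fix_small_bits : ∀ π ∈ d8List, π ≠ 1 → (fixBits π π).length ≤ 16 := by decide +kernel

theorem fix_small (π : Perm (Fin 7)) (h : π ∈ d8List) (h1 : π ≠ 1) : (fix2 π π).card ≤ 16 :=
  (fix2_card_le π π).trans (fix_small_bits π h h1)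

theorem fix_pair_bits : ∀ π ∈ d8List, ∀ σ ∈ d8List, π ≠ 1 → σ ≠ 1 → π ≠ σ → π * σ = σ * π →
    (fixBits π σ).length * (d8List.filter fun τ => τ * π = π * τ ∧ τ * σ = σ * τ).length < 64 := by
  decide +kernel

theorem fix_pair_small (π : Perm (Fin 7)) (hπ : π ∈ d8List) (σ : Perm (Fin 7)) (hσ : σ ∈ d8List)
    (h1 : π ≠ 1) (h2 : σ ≠ 1) (h3 : π ≠ σ) (h4 : π * σ = σ * π) :
    (fix2 π σ).card * (d8List.filter fun τ => τ * π = π * τ ∧ τ * σ = σ * τ).length < 64 :=
  lt_of_le_of_lt (Nat.mul_le_mul_right _ (fix2_card_le π σ)) (fix_pair_bits π hπ σ hσ h1 h2 h3 h4)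

theorem fixed_point_six : ∀ x : Fin 7, (∀ π ∈ d8List, π x = x) → x = 6 := by decide +kernel

theorem centre_d8 : ∀ π ∈ d8List, π ≠ 1 → (∀ σ ∈ d8List, π * σ = σ * π) → π = pa := by
  decide +kernel

/-- The sign change of two coordinates. -/
def pairSign (i j : Fin 7) : Fin 7 → ℤˣ := fun k => if k = i ∨ k = j then -1 else 1

theorem pairSign_comm (i j : Fin 7) : pairSign i j = pairSign j i := by
  funext k; simp only [pairSign, or_comm]

theorem prod_pairSign : ∀ i j : Fin 7, i ≠ j → ∏ k, pairSign i j k = 1 := by decide +kernel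

theorem centre_bits : ∀ t ∈ bits, (∀ i, bvec t (pa i) = bvec t i) → (∀ i, bvec t (pb i) = bvec t i) →
    (∀ i, bvec t (pc i) = bvec t i) →
    t ∈ [(false, false, false, false, false, false), (false, false, false, false, true, true),
      (true, true, true, true, false, false), (true, true, true, true, true, true)] := by
  decide +kernel

theorem centre_signs (ε : Fin 7 → ℤˣ) (hε : ε ∈ evens) (h1 : ε ≠ 1) (ha : ∀ i, ε (pa i) = ε i)
    (hb : ∀ i, ε (pb i) = ε i) (hc : ∀ i, ε (pc i) = ε i) :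
    ε = pairSign 4 5 ∨
    ε * mulAutArrow (swap (3 : Fin 7) 4 * swap 0 1) ε = pairSign 3 4 ∨
    ε * mulAutArrow (swap (5 : Fin 7) 6 * swap 0 1) ε = pairSign 5 6 := by
  obtain ⟨t, rfl⟩ := exists_bits hε
  simp only [toS_apply_eq] at ha hb hc
  have h := centre_bits t (mem_bits t) ha hb hc
  simp only [List.mem_cons, List.not_mem_nil, or_false] at h
  rcases h with rfl | rfl | rfl | rfl
  · exact absurd (by decide +kernel) h1
  · left; decide +kernel
  · right; left; decide +kernel
  · right; right; decide +kernel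

theorem exists_two_others : ∀ i j k : Fin 7, ∃ l m : Fin 7,
    l ≠ m ∧ l ≠ i ∧ l ≠ j ∧ l ≠ k ∧ m ≠ i ∧ m ≠ j ∧ m ≠ k := by decide +kernel

/-- One bit's contribution. -/
def bitPair (b : Bool) (k : Fin 7) : Fin 7 → ℤˣ := if b then pairSign k 6 else 1

theorem eq_prod_bitPair : ∀ t ∈ bits, toS (bvec t) = bitPair t.1 0 * (bitPair t.2.1 1 *
    (bitPair t.2.2.1 2 * (bitPair t.2.2.2.1 3 * (bitPair t.2.2.2.2.1 4 * bitPair t.2.2.2.2.2 5)))) := by
  decide +kernel

end Cfsg.Agent.Lib.FusionB3
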