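/-
The 2-fusion system of a group with a signed monomial subgroup `2^6:A_7` of odd index, in which a
sign change of two coordinates is conjugate to signed double transpositions (`Ω_7(q)`, `q ≡ ±3 mod 8`).
-/
import Mathlib
import Cfsg.Agent.Lib.FusionB3.Finite
import Cfsg.Agent.S5339
import Cfsg.Agent.Lib.FusionSystem.Group
import Cfsg.Agent.Lib.PGroups.Omega
import Cfsg.Prelude.Def_KGroupFacts

set_option autoImplicit false
set_option maxRecDepth 4000
set_option linter.unusedSectionVars false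

namespace Cfsg.Agent.Lib.FusionB3

open Equiv SemidirectProduct

/-- Signed permutations of seven points. -/
abbrev W : Type := (Fin 7 → ℤˣ) ⋊[mulAutArrow] Perm (Fin 7)

theorem arrow_apply (π : Perm (Fin 7)) (ε : Fin 7 → ℤˣ) (i : Fin 7) :
    mulAutArrow π ε i = ε (π⁻¹ i) := rfl

theorem prod_arrow (π : Perm (Fin 7)) (ε : Fin 7 → ℤˣ) : ∏ i, mulAutArrow π ε i = ∏ i, ε i := by
  simp only [arrow_apply]
  exact Equiv.prod_comp π⁻¹ ε

instance finite_W : Finite W := Finite.of_equiv _ SemidirectProduct.equivProd.symm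

/-- Evenly signed even permutations: `2^6 : A_7`. -/
def good : Subgroup W where
  carrier := {w | ∏ i, w.left i = 1 ∧ Perm.sign w.right = 1}
  one_mem' := by simp
  mul_mem' := by
    rintro a b ⟨ha, ha'⟩ ⟨hb, hb'⟩
    refine ⟨?_, by rw [mul_right, map_mul, ha', hb', mul_one]⟩
    simp only [mul_left, Pi.mul_apply, Finset.prod_mul_distrib, prod_arrow, ha, hb, mul_one]
  inv_mem' := by
    rintro a ⟨ha, ha'⟩
    refine ⟨?_, by rw [inv_right, map_inv, ha', inv_one]⟩
    rw [inv_left, prod_arrow]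
    simp only [Pi.inv_apply, Finset.prod_inv_distrib, ha, inv_one]

/-- The dihedral group of order 8. -/
def d8 : Subgroup (Perm (Fin 7)) where
  carrier := {π | π 6 = 6 ∧ π * pa = pa * π ∧ Perm.sign π = 1}
  one_mem' := by simp
  mul_mem' := by
    rintro a b ⟨h1, h2, h3⟩ ⟨k1, k2, k3⟩
    exact ⟨by rw [Perm.mul_apply, k1, h1], by rw [mul_assoc, k2, ← mul_assoc, h2, mul_assoc],
      by rw [map_mul, h3, k3, mul_one]⟩
  inv_mem' := by
    rintro a ⟨h1, h2, h3⟩
    exact ⟨by rw [Perm.inv_eq_iff_eq, h1], (Commute.inv_left h2).eq, by rw [map_inv, h3, inv_one]⟩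

theorem mem_d8_iff {π : Perm (Fin 7)} : π ∈ d8 ↔ π ∈ d8List :=
  ⟨fun h => mem_d8List_of π h.1 h.2.1 h.2.2, d8List_spec π⟩

/-- The Sylow 2-subgroup `2^6 : D_8`. -/
def syl : Subgroup W := good ⊓ d8.comap rightHom

theorem mem_syl {w : W} : w ∈ syl ↔ w ∈ good ∧ w.right ∈ d8 := Iff.rfl

theorem syl_le : syl ≤ good := inf_le_left

/-- The even sign changes. -/
def signs : Subgroup W := good ⊓ (rightHom (φ := (mulAutArrow : Perm (Fin 7) →* MulAut (Fin 7 → ℤˣ)))).ker

theorem mem_signs {w : W} : w ∈ signs ↔ w ∈ good ∧ w.right = 1 := Iff.rfl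

theorem signs_le : signs ≤ syl := fun w hw =>
  ⟨hw.1, show w.right ∈ d8 by rw [(mem_signs.1 hw).2]; exact one_mem d8⟩

theorem inl_mem_signs {ε : Fin 7 → ℤˣ} (h : ∏ i, ε i = 1) : (inl ε : W) ∈ signs :=
  mem_signs.2 ⟨⟨by simpa using h, by simp⟩, by simp⟩

theorem eq_inl_of_mem_signs {w : W} (h : w ∈ signs) : w = inl w.left := by
  ext <;> simp [(mem_signs.1 h).2]

theorem inr_mem_syl {π : Perm (Fin 7)} (h : π ∈ d8) : (inr π : W) ∈ syl :=
  mem_syl.2 ⟨⟨by simp, by simpa using h.2.2⟩, by simpa using h⟩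

theorem conj_inl (w : W) (ε : Fin 7 → ℤˣ) :
    w * inl ε * w⁻¹ = inl (mulAutArrow w.right ε) := by
  conv_lhs => rw [← inl_left_mul_inr_right w]
  rw [inl_aut, mul_inv_rev, map_inv inr]
  have : (inl w.left : W) * inl (mulAutArrow w.right ε) * (inl w.left)⁻¹ =
      inl (mulAutArrow w.right ε) := by
    rw [← map_inv inl, ← map_mul, ← map_mul, mul_comm w.left, mul_inv_cancel_right]
  rw [inl_aut] at this
  simp only [mul_assoc] at this ⊢
  exact this

theorem arrow_pairSign (π : Perm (Fin 7)) (i j : Fin 7) :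
    mulAutArrow π (pairSign i j) = pairSign (π i) (π j) := by
  funext k
  simp only [arrow_apply, pairSign, Perm.inv_eq_iff_eq]

theorem card_syl : Nat.card syl = 512 := by
  let e : syl ≃ {ε : Fin 7 → ℤˣ // ε ∈ evens} × {π : Perm (Fin 7) // π ∈ d8List.toFinset} :=
    { toFun := fun w => (⟨w.1.left, by simpa [mem_evens] using w.2.1.1⟩,
        ⟨w.1.right, List.mem_toFinset.2 (mem_d8_iff.1 w.2.2)⟩)
      invFun := fun p => ⟨⟨p.1.1, p.2.1⟩, mem_syl.2
        ⟨⟨mem_evens.1 p.1.2, (d8List_spec _ (List.mem_toFinset.1 p.2.2)).2.2⟩,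
          mem_d8_iff.2 (List.mem_toFinset.1 p.2.2)⟩⟩
      left_inv := fun w => Subtype.ext (SemidirectProduct.ext rfl rfl)
      right_inv := fun p => rfl }
  rw [Nat.card_congr e, Nat.card_prod, Nat.card_eq_finsetCard, Nat.card_eq_finsetCard, card_evens,
    show d8List.toFinset.card = 8 by decide +kernel]

theorem card_signs : Nat.card signs = 64 := by
  let e : signs ≃ {ε : Fin 7 → ℤˣ // ε ∈ evens} :=
    { toFun := fun w => ⟨w.1.left, by simpa [mem_evens] using w.2.1.1⟩
      invFun := fun p => ⟨inl p.1, inl_mem_signs (mem_evens.1 p.2)⟩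
      left_inv := fun w => Subtype.ext (eq_inl_of_mem_signs w.2).symm
      right_inv := fun p => Subtype.ext (by simp) }
  rw [Nat.card_congr e, Nat.card_eq_finsetCard, card_evens]

/-- The only abelian subgroup of order 64 of the Sylow subgroup is the group of sign changes. -/
theorem eq_signs {A : Subgroup W} (hA : A ≤ syl) (hcomm : ∀ a ∈ A, ∀ b ∈ A, a * b = b * a)
    (hcard : Nat.card A = 64) : A = signs := by
  classical
  let f : A →* Perm (Fin 7) := rightHom.comp A.subtype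
  have hf : ∀ a : A, f a = a.1.right := fun a => rfl
  have hfix : ∀ (a : A) (b : f.ker), ∀ i, b.1.1.left ((f a) i) = b.1.1.left i := by
    intro a b i
    have hb : b.1.1.right = 1 := b.2
    have hinl : b.1.1 = inl b.1.1.left := by ext <;> simp [hb]
    have h := conj_inl a.1 b.1.1.left
    rw [← hinl, hcomm a.1 a.2 b.1.1 b.1.2, mul_inv_cancel_right, hinl] at h
    have h' := congrFun (inl_injective h) (a.1.right i)
    rw [arrow_apply] at h'
    simpa [hf] using h'
  have hker : ∀ π σ : Perm (Fin 7), (∀ b : f.ker, (∀ i, b.1.1.left (π i) = b.1.1.left i) ∧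
      ∀ i, b.1.1.left (σ i) = b.1.1.left i) → Nat.card f.ker ≤ (fix2 π σ).card := by
    intro π σ h
    rw [← Nat.card_eq_finsetCard (fix2 π σ)]
    refine Nat.card_le_card_of_injective (fun b => ⟨b.1.1.left, ?_⟩) fun b c hbc => ?_
    · simp only [fix2, mem_evens, Finset.mem_filter]
      exact ⟨(hA b.1.2).1.1, h b⟩
    · have hb : b.1.1.right = 1 := b.2
      have hc : c.1.1.right = 1 := c.2
      exact Subtype.ext (Subtype.ext (SemidirectProduct.ext (congrArg Subtype.val hbc)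
        (hb.trans hc.symm)))
  have hmul : Nat.card f.range * Nat.card f.ker = 64 := by
    rw [← hcard, ← Subgroup.index_ker, mul_comm]
    exact Subgroup.card_mul_index _
  have hmem : ∀ a : A, f a ∈ d8List := fun a => mem_d8_iff.1 (hA a.2).2
  have hle : A ≤ signs := by
    intro a ha
    refine mem_signs.2 ⟨syl_le (hA ha), ?_⟩
    by_contra hne
    have h16 := (hker _ _ fun b => ⟨hfix ⟨a, ha⟩ b, hfix ⟨a, ha⟩ b⟩).trans
      (fix_small _ (hmem ⟨a, ha⟩) hne)
    by_cases h2 : Nat.card f.range ≤ 2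
    · have := Nat.mul_le_mul h2 h16
      omega
    obtain ⟨a', ha'1, ha'2⟩ : ∃ a' : A, f a' ≠ 1 ∧ f a' ≠ f ⟨a, ha⟩ := by
      by_contra hcon
      push Not at hcon
      refine h2 ?_
      rw [← SetLike.coe_sort_coe, Nat.card_coe_set_eq]
      refine (Set.ncard_le_ncard (t := {1, f ⟨a, ha⟩}) ?_ (Set.toFinite _)).trans
        ((Set.ncard_insert_le _ _).trans (by rw [Set.ncard_singleton]))
      rintro _ ⟨x, rfl⟩
      rcases eq_or_ne (f x) 1 with h | h
      · exact Or.inl h
      · exact Or.inr (hcon x h)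
    have hcf : ∀ x y : A, f x * f y = f y * f x := fun x y => by
      rw [← map_mul, ← map_mul, (Subtype.ext (hcomm x.1 x.2 y.1 y.2) : x * y = y * x)]
    have hk := hker _ _ fun b => ⟨hfix ⟨a, ha⟩ b, hfix a' b⟩
    have hr : Nat.card f.range ≤ (d8List.filter fun τ => τ * f ⟨a, ha⟩ = f ⟨a, ha⟩ * τ ∧
        τ * f a' = f a' * τ).length := by
      refine le_trans (le_of_le_of_eq (b := Nat.card {τ // τ ∈ (d8List.filter fun τ =>
        τ * f ⟨a, ha⟩ = f ⟨a, ha⟩ * τ ∧ τ * f a' = f a' * τ).toFinset}) ?_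
        (Nat.card_eq_finsetCard _)) (List.toFinset_card_le _)
      refine Nat.card_le_card_of_injective (fun x => ⟨x.1, ?_⟩) fun x y hxy =>
        Subtype.ext (by simpa using hxy)
      obtain ⟨y, hy⟩ := x.2
      rw [List.mem_toFinset, List.mem_filter, ← hy]
      exact ⟨hmem y, by simpa using ⟨hcf y _, hcf y _⟩⟩
    have hs := fix_pair_small _ (hmem ⟨a, ha⟩) _ (hmem a') hne ha'1 (Ne.symm ha'2) (hcf _ _)
    have := Nat.mul_le_mul hk hr
    rw [mul_comm (Nat.card f.ker)] at this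
    omega
  exact Subgroup.eq_of_le_of_card_ge hle (by rw [hcard, card_signs])

/-- The Sylow subgroup is self-normalising in the monomial group. -/
theorem mem_syl_of_conj {w : W} (hw : w ∈ good) (h : ∀ x ∈ syl, w * x * w⁻¹ ∈ syl) : w ∈ syl := by
  refine mem_syl.2 ⟨hw, ?_⟩
  set π := w.right
  have hd : ∀ σ ∈ d8, π * σ * π⁻¹ ∈ d8 := fun σ hσ => by
    simpa [mem_syl] using (mem_syl.1 (h _ (inr_mem_syl hσ))).2
  have hd' : ∀ σ ∈ d8, π⁻¹ * σ * π ∈ d8 := by
    intro σ hσ
    have hs : d8.map (MulAut.conj π).toMonoidHom = d8 := by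
      apply Subgroup.eq_of_le_of_card_ge
      · rintro _ ⟨x, hx, rfl⟩; exact hd x hx
      · rw [Subgroup.card_map_of_injective (MulAut.conj π).injective]
    have hσ' := hσ
    rw [← hs] at hσ'
    obtain ⟨x, hx, rfl⟩ := hσ'
    simpa [MulAut.conj_apply, mul_assoc] using hx
  have h6 : π 6 = 6 := fixed_point_six _ fun σ hσ => by
    have := (hd' σ (mem_d8_iff.2 hσ)).1
    rw [Perm.mul_apply, Perm.mul_apply, Perm.inv_eq_iff_eq] at this
    exact this
  refine ⟨h6, ?_, hw.2⟩
  have hpa : pa ∈ d8 := mem_d8_iff.2 (by simp [d8List])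
  have hz : π * pa * π⁻¹ = pa := by
    refine centre_d8 _ (mem_d8_iff.1 (hd _ hpa)) ?_ fun σ hσ => ?_
    · intro e
      rw [conj_eq_one_iff] at e
      exact absurd e (by decide)
    · have hc := (hd' σ (mem_d8_iff.2 hσ)).2.1
      calc π * pa * π⁻¹ * σ = π * (pa * (π⁻¹ * σ * π)) * π⁻¹ := by group
        _ = π * ((π⁻¹ * σ * π) * pa) * π⁻¹ := by rw [hc]
        _ = σ * (π * pa * π⁻¹) := by group
  exact mul_inv_eq_iff_eq_mul.1 hz

/-- A central element of the Sylow subgroup is a sign change fixed by `D_8`. -/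
theorem centre_syl {z : W} (hz : z ∈ syl) (hc : ∀ x ∈ syl, x * z = z * x) :
    z ∈ signs ∧ ∀ π ∈ d8, ∀ i, z.left (π i) = z.left i := by
  have hfix : ∀ ε ∈ evens, ∀ i, ε (z.right i) = ε i := by
    intro ε hε i
    have hm : (inl ε : W) ∈ signs := inl_mem_signs (by simpa [mem_evens] using hε)
    have h := conj_inl z ε
    rw [← hc _ (signs_le hm), mul_inv_cancel_right] at h
    have h' := congrFun (inl_injective h) (z.right i)
    rw [arrow_apply] at h'
    simpa using h'
  have hr : z.right = 1 := by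
    by_contra hne
    have h := fix_small _ (mem_d8_iff.1 (mem_syl.1 hz).2) hne
    have : fix2 z.right z.right = evens :=
      Finset.filter_true_of_mem fun ε hε => ⟨hfix ε hε, hfix ε hε⟩
    rw [this, card_evens] at h
    omega
  have hs : z ∈ signs := mem_signs.2 ⟨syl_le hz, hr⟩
  refine ⟨hs, fun π hπ i => ?_⟩
  have h := conj_inl (inr π) z.left
  rw [← eq_inl_of_mem_signs hs, hc _ (inr_mem_syl hπ), mul_inv_cancel_right,
    eq_inl_of_mem_signs hs, right_inr] at h
  have h' := congrFun (inl_injective h) (π i)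
  rw [arrow_apply] at h'
  simpa using h'

/-- A double transposition as an element of `good`. -/
def dbl (π : Perm (Fin 7)) (h : π ∈ d8) : good := ⟨inr π, syl_le (inr_mem_syl h)⟩

theorem pa_mem : pa ∈ d8 := mem_d8_iff.2 (by simp [d8List])
theorem pb_mem : pb ∈ d8 := mem_d8_iff.2 (by simp [d8List])
theorem pc_mem : pc ∈ d8 := mem_d8_iff.2 (by simp [d8List])

/-- The sign change of the first two coordinates. -/
def sign01 : good := ⟨inl (pairSign 0 1), syl_le (signs_le (inl_mem_signs (prod_pairSign 0 1 (by decide))))⟩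

universe u

variable {G : Type u} [Group G] [Finite G]

theorem fusion_aux (S : Sylow 2 G) (ρ : good →* G) (hρ : Function.Injective ρ)
    (hS : (syl.subgroupOf good).map ρ = (S : Subgroup G))
    (hmono : ∀ g : G, (∀ e : good, (e : W) ∈ signs → ∃ e' : good, g * ρ e * g⁻¹ = ρ e') →
      (∀ e : good, (e : W) ∈ signs → ∀ e' : good, g * ρ e * g⁻¹ = ρ e' → (e' : W) ∈ signs) →
      g ∈ ρ.range)
    (hfuse : ∀ π, ∀ h : π ∈ d8, π = pa ∨ π = pb ∨ π = pc →
      ∃ g : G, g * ρ sign01 * g⁻¹ = ρ (dbl π h)) :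
    (Cfsg.groupFusionSystem (S : Subgroup G)).autGroup (S : Subgroup G) = Cfsg.Inn ↥(S : Subgroup G) ∧
    (∀ T : Subgroup G, (Cfsg.groupFusionSystem (S : Subgroup G)).StronglyClosed T →
      T = ⊥ ∨ T = (S : Subgroup G)) ∧
    (Cfsg.groupFusionSystem (S : Subgroup G)).IsSimple 2 := by
  classical
  haveI : Fact (Nat.Prime 2) := ⟨Nat.prime_two⟩
  have hmemS : ∀ w : good, ρ w ∈ (S : Subgroup G) ↔ (w : W) ∈ syl := by
    intro w
    rw [← hS]
    exact ⟨fun ⟨v, hv, e⟩ => hρ e ▸ hv, fun h => ⟨w, h, rfl⟩⟩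
  have hpre : ∀ x ∈ (S : Subgroup G), ∃ w : good, (w : W) ∈ syl ∧ ρ w = x := by
    intro x hx
    rw [← hS] at hx
    exact hx
  have haut : (Cfsg.groupFusionSystem (S : Subgroup G)).autGroup (S : Subgroup G) =
      Cfsg.Inn ↥(S : Subgroup G) := by
    ext α
    rw [FS.mem_autGroup le_rfl]
    constructor
    · rintro ⟨-, -, g, hg⟩
      have hconj : ∀ x ∈ (S : Subgroup G), g * x * g⁻¹ ∈ (S : Subgroup G) := fun x hx => by
        rw [← hg ⟨x, hx⟩]; exact (α ⟨x, hx⟩).2
      let E : Subgroup good := signs.subgroupOf good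
      let κ : good →* G := (MulAut.conj g).toMonoidHom.comp ρ
      let A : Subgroup W := ((E.map κ).comap ρ).map good.subtype
      have hEin : ∀ e ∈ E, ∃ a : good, (a : W) ∈ syl ∧ ρ a = κ e := fun e he =>
        hpre _ (hconj _ ((hmemS e).2 (signs_le he)))
      have hAmem : ∀ a : good, (a : W) ∈ A ↔ ρ a ∈ E.map κ := fun a =>
        ⟨fun ⟨b, hb, e⟩ => (Subtype.ext e : b = a) ▸ hb, fun h => ⟨a, h, rfl⟩⟩
      have hAle : A ≤ syl := by
        rintro _ ⟨a, ⟨e, he, hae⟩, rfl⟩
        obtain ⟨b, hb, hbe⟩ := hEin e he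
        rwa [← hρ (hbe.trans hae)]
      have hcommE : ∀ x ∈ E, ∀ y ∈ E, x * y = y * x := by
        intro x hx y hy
        refine Subtype.ext ?_
        show (x : W) * y = y * x
        rw [eq_inl_of_mem_signs (w := (x : W)) hx, eq_inl_of_mem_signs (w := (y : W)) hy, ← map_mul, ← map_mul, mul_comm]
      have hAcomm : ∀ a ∈ A, ∀ b ∈ A, a * b = b * a := by
        rintro _ ⟨a, ⟨e, he, hae⟩, rfl⟩ _ ⟨b, ⟨e', he', hbe⟩, rfl⟩
        have : a * b = b * a := hρ (by
          rw [map_mul, map_mul, ← hae, ← hbe, ← map_mul, hcommE e he e' he', map_mul])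
        exact congrArg Subtype.val this
      have hAcard : Nat.card A = 64 := by
        rw [Subgroup.card_map_of_injective good.subtype_injective]
        have hrange : E.map κ ≤ ρ.range := by
          rintro _ ⟨e, he, rfl⟩
          obtain ⟨b, -, hbe⟩ := hEin e he
          exact ⟨b, hbe⟩
        have h1 : ((E.map κ).comap ρ).map ρ = E.map κ := by
          rw [Subgroup.map_comap_eq, inf_eq_right.2 hrange]
        have h2 := Subgroup.card_map_of_injective (K := (E.map κ).comap ρ) hρ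
        rw [h1, Subgroup.card_map_of_injective ((MulAut.conj g).injective.comp hρ)] at h2
        rw [← h2, Nat.card_congr (Subgroup.subgroupOfEquivOfLe (le_trans signs_le syl_le)).toEquiv,
          card_signs]
      have hAeq := eq_signs hAle hAcomm hAcard
      obtain ⟨w, rfl⟩ : g ∈ ρ.range := by
        refine hmono g (fun e he => ?_) fun e he e' hee => ?_
        · obtain ⟨b, -, hb⟩ := hEin e he
          exact ⟨b, hb.symm⟩
        · rw [← hAeq, hAmem]
          exact ⟨e, he, hee⟩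
      have hw : (w : W) ∈ syl := by
        refine mem_syl_of_conj w.2 fun x hx => ?_
        have h := hconj _ ((hmemS ⟨x, syl_le hx⟩).2 hx)
        rw [← map_inv, ← map_mul, ← map_mul] at h
        exact (hmemS _).1 h
      refine ⟨⟨ρ w, (hmemS w).2 hw⟩, MulEquiv.ext fun x => Subtype.ext ?_⟩
      exact (hg x).symm
    · rintro ⟨s, rfl⟩
      exact ⟨le_rfl, fun x => (MulAut.conj s x).2, s, fun x => rfl⟩
  have hsc : ∀ T : Subgroup G, (Cfsg.groupFusionSystem (S : Subgroup G)).StronglyClosed T →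
      T = ⊥ ∨ T = (S : Subgroup G) := by
    intro T hT
    obtain ⟨hTS, hcl⟩ := hT
    rcases eq_or_ne T ⊥ with h | hne
    · exact Or.inl h
    right
    have hclosed : ∀ x ∈ T, ∀ g : G, g * x * g⁻¹ ∈ (S : Subgroup G) → g * x * g⁻¹ ∈ T := by
      intro x hx g hg
      have hle : Subgroup.zpowers x ≤ T := Subgroup.zpowers_le.2 hx
      refine hcl (Subgroup.zpowers x) hle (Cfsg.conjHom (Subgroup.zpowers x) g)
        (FS.conjHom_mem_group (hle.trans hTS) ?_) ⟨x, Subgroup.mem_zpowers x⟩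
      intro y hy
      obtain ⟨n, rfl⟩ := Subgroup.mem_zpowers_iff.1 hy
      rw [← conj_zpow]
      exact zpow_mem hg n
    let T0 : Subgroup good := T.comap ρ
    have hT0c : ∀ t ∈ T0, ∀ v : good, ((v * t * v⁻¹ : good) : W) ∈ syl → v * t * v⁻¹ ∈ T0 := by
      intro t ht v hv
      show ρ (v * t * v⁻¹) ∈ T
      rw [map_mul, map_mul, map_inv]
      refine hclosed _ ht _ ?_
      rw [← map_inv, ← map_mul, ← map_mul]
      exact (hmemS _).2 hv
    obtain ⟨z, hzT, hzS, hz1, hzc⟩ : ∃ z : good, z ∈ T0 ∧ (z : W) ∈ syl ∧ z ≠ 1 ∧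
        ∀ x : good, (x : W) ∈ syl → x * z = z * x := by
      have hn : (T.subgroupOf (S : Subgroup G)).Normal := ⟨fun t ht s => by
        show ((s : G) * t * (s : G)⁻¹) ∈ T
        exact hclosed _ ht _ (mul_mem (mul_mem s.2 t.2) (inv_mem s.2))⟩
      have hne' : T.subgroupOf (S : Subgroup G) ≠ ⊥ := fun h => hne (by
        rw [Subgroup.subgroupOf_eq_bot] at h
        exact eq_bot_iff.2 fun x hx => Subgroup.disjoint_def.1 h hx (hTS hx))
      have hm := Cfsg.Agent.Lib.PGroups.normal_inf_center_ne_bot S.isPGroup' _ hne'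
      obtain ⟨⟨⟨c, hcS⟩, hc⟩, hc1⟩ := Subgroup.ne_bot_iff_exists_ne_one.1 hm
      obtain ⟨hcT, hcc⟩ := hc
      obtain ⟨z, hz, rfl⟩ := hpre c hcS
      refine ⟨z, hcT, hz, fun e => hc1 (Subtype.ext (Subtype.ext (by simp [e]))), fun x hx => hρ ?_⟩
      rw [map_mul, map_mul]
      exact congrArg Subtype.val (Subgroup.mem_center_iff.1 hcc ⟨ρ x, (hmemS x).2 hx⟩)
    obtain ⟨hzs, hzfix⟩ := centre_syl hzS fun x hx =>
      congrArg Subtype.val (hzc ⟨x, syl_le hx⟩ hx)
    -- sign vectors in T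
    let P : (Fin 7 → ℤˣ) → Prop := fun ε => ∃ t ∈ T0, (t : W) = inl ε
    have hPc : ∀ ε : Fin 7 → ℤˣ, (∏ i, ε i = 1) → P ε → ∀ π : Perm (Fin 7), Perm.sign π = 1 → P (mulAutArrow π ε) := by
      rintro ε hε ⟨t, ht, hte⟩ π hπ
      let v : good := ⟨inr π, by simp [good, hπ]⟩
      have he : ((v * t * v⁻¹ : good) : W) = inl (mulAutArrow π ε) := by
        show (inr π : W) * (t : W) * (inr π : W)⁻¹ = _
        rw [hte, conj_inl, right_inr]
      refine ⟨v * t * v⁻¹, hT0c t ht v ?_, he⟩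
      rw [he]
      exact signs_le (inl_mem_signs (by rw [prod_arrow, hε]))
    have hPmul : ∀ ε δ, P ε → P δ → P (ε * δ) := by
      rintro ε δ ⟨t, ht, hte⟩ ⟨s, hs, hsd⟩
      exact ⟨t * s, mul_mem ht hs, by rw [Subgroup.coe_mul, hte, hsd, map_mul]⟩
    have hPz : P (z : W).left := ⟨z, hzT, eq_inl_of_mem_signs hzs⟩
    have hzprod : ∏ i, (z : W).left i = 1 := hzs.1.1
    obtain ⟨i₀, j₀, hij₀, hpair⟩ : ∃ i j : Fin 7, i ≠ j ∧ P (pairSign i j) := by
      rcases centre_signs _ (by simpa [mem_evens] using hzprod) (fun e => hz1 (Subtype.ext (by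
          rw [eq_inl_of_mem_signs hzs, e, map_one]; rfl)))
        (hzfix _ pa_mem) (hzfix _ pb_mem) (hzfix _ pc_mem) with h | h | h
      · exact ⟨4, 5, by decide, h ▸ hPz⟩
      · exact ⟨3, 4, by decide, h ▸ hPmul _ _ hPz (hPc _ hzprod hPz _ (by decide))⟩
      · exact ⟨5, 6, by decide, h ▸ hPmul _ _ hPz (hPc _ hzprod hPz _ (by decide))⟩
    have hstep : ∀ i j k : Fin 7, i ≠ j → i ≠ k → P (pairSign i j) → P (pairSign i k) := by
      intro i j k hij hik h
      rcases eq_or_ne j k with rfl | hjk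
      · exact h
      obtain ⟨l, m, hlm, hli, hlj, hlk, hmi, hmj, hmk⟩ := exists_two_others i j k
      have h' := hPc _ (prod_pairSign i j hij) h (swap j k * swap l m)
        (by rw [map_mul, Perm.sign_swap hjk, Perm.sign_swap hlm]; rfl)
      rwa [arrow_pairSign, Perm.mul_apply, Perm.mul_apply,
        swap_apply_of_ne_of_ne hli.symm hmi.symm, swap_apply_of_ne_of_ne hij hik,
        swap_apply_of_ne_of_ne hlj.symm hmj.symm, swap_apply_left] at h'
    have hall : ∀ i j : Fin 7, i ≠ j → P (pairSign i j) := by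
      intro i j hij
      rcases eq_or_ne i i₀ with rfl | hi
      · exact hstep i j₀ j hij₀ hij hpair
      · have h1 := hstep i₀ j₀ i hij₀ (Ne.symm hi) hpair
        rw [pairSign_comm] at h1
        exact hstep i i₀ j hi hij h1
    have hPall : ∀ ε ∈ evens, P ε := by
      intro ε hε
      obtain ⟨t, rfl⟩ := exists_bits hε
      have h1 : P 1 := ⟨1, one_mem _, by simp⟩
      have hb : ∀ (b : Bool) (k : Fin 7), k ≠ 6 → P (bitPair b k) := fun b k hk => by
        cases b
        · simpa [bitPair] using h1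
        · simpa [bitPair] using hall k 6 hk
      rw [eq_prod_bitPair t (mem_bits t)]
      exact hPmul _ _ (hb _ 0 (by decide)) (hPmul _ _ (hb _ 1 (by decide)) (hPmul _ _ (hb _ 2 (by decide))
        (hPmul _ _ (hb _ 3 (by decide)) (hPmul _ _ (hb _ 4 (by decide)) (hb _ 5 (by decide))))))
    have hsigns : ∀ t : good, (t : W) ∈ signs → t ∈ T0 := by
      intro t ht
      obtain ⟨s, hs, hse⟩ := hPall (t : W).left (by simpa [mem_evens] using ht.1.1)
      rwa [show t = s from Subtype.ext (by rw [hse]; exact eq_inl_of_mem_signs ht)]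
    have hgen : ∀ π, ∀ h : π ∈ d8, π = pa ∨ π = pb ∨ π = pc → dbl π h ∈ T0 := by
      intro π h hp
      obtain ⟨g, hg⟩ := hfuse π h hp
      show ρ (dbl π h) ∈ T
      rw [← hg]
      refine hclosed _ (hsigns sign01 (inl_mem_signs (prod_pairSign 0 1 (by decide)))) g ?_
      rw [hg]
      exact (hmemS _).2 (inr_mem_syl h)
    have hd : ∀ π, ∀ h : π ∈ d8, dbl π h ∈ T0 := by
      intro π h
      have hm : ∀ σ τ (hσ : σ ∈ d8) (hτ : τ ∈ d8), dbl σ hσ ∈ T0 → dbl τ hτ ∈ T0 →
          dbl (σ * τ) (mul_mem hσ hτ) ∈ T0 := fun σ τ hσ hτ h1 h2 => by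
        have : dbl (σ * τ) (mul_mem hσ hτ) = dbl σ hσ * dbl τ hτ :=
          Subtype.ext (map_mul inr σ τ)
        rw [this]
        exact mul_mem h1 h2
      have ha := hgen pa pa_mem (Or.inl rfl)
      have hb := hgen pb pb_mem (Or.inr (Or.inl rfl))
      have hc := hgen pc pc_mem (Or.inr (Or.inr rfl))
      have hl := mem_d8_iff.1 h
      simp only [d8List, List.mem_cons, List.not_mem_nil, or_false] at hl
      rcases hl with rfl | rfl | rfl | rfl | rfl | rfl | rfl | rfl
      · have : dbl 1 h = 1 := Subtype.ext (map_one inr)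
        rw [this]; exact one_mem _
      · exact ha
      · exact hb
      · exact hm _ _ pa_mem pb_mem ha hb
      · exact hc
      · exact hm _ _ pa_mem pc_mem ha hc
      · exact hm _ _ pb_mem pc_mem hb hc
      · exact hm _ _ (mul_mem pa_mem pb_mem) pc_mem (hm _ _ pa_mem pb_mem ha hb) hc
    refine le_antisymm hTS fun x hx => ?_
    obtain ⟨w, hw, rfl⟩ := hpre x hx
    have hd8 := (mem_syl.1 hw).2
    have hl : (inl (w : W).left : W) ∈ signs := inl_mem_signs (syl_le hw).1
    have hwe : w = ⟨inl (w : W).left, syl_le (signs_le hl)⟩ * dbl (w : W).right hd8 :=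
      Subtype.ext (inl_left_mul_inr_right _).symm
    show w ∈ T0
    rw [hwe]
    exact mul_mem (hsigns _ hl) (hd _ _)
  have hS1 : (S : Subgroup G) ≠ ⊥ := by
    intro h
    have he : (inl (pairSign 0 1) : W) ∈ syl :=
      signs_le (inl_mem_signs (prod_pairSign 0 1 (by decide)))
    have h1 := (hmemS sign01).2 he
    rw [h, Subgroup.mem_bot, map_eq_one_iff ρ hρ] at h1
    have h2 := congrFun (congrArg (fun w : good => (w : W).left) h1) 0
    exact absurd h2 (by decide)
  exact ⟨haut, hsc, Cfsg.Agent.S5339.result 2 S.isPGroup' _ (FS.isSaturated_group S) hS1 haut hsc⟩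

/-- The criterion, for an arbitrary Sylow 2-subgroup. -/
theorem fusion (S : Sylow 2 G) (hcard : Nat.card (S : Subgroup G) = 512) (ρ : good →* G)
    (hρ : Function.Injective ρ)
    (hmono : ∀ g : G, (∀ e : good, (e : W) ∈ signs → ∃ e' : good, g * ρ e * g⁻¹ = ρ e') →
      (∀ e : good, (e : W) ∈ signs → ∀ e' : good, g * ρ e * g⁻¹ = ρ e' → (e' : W) ∈ signs) →
      g ∈ ρ.range)
    (hfuse : ∀ π, ∀ h : π ∈ d8, π = pa ∨ π = pb ∨ π = pc →
      ∃ g : G, g * ρ sign01 * g⁻¹ = ρ (dbl π h)) :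
    (Cfsg.groupFusionSystem (S : Subgroup G)).autGroup (S : Subgroup G) = Cfsg.Inn ↥(S : Subgroup G) ∧
    (∀ T : Subgroup G, (Cfsg.groupFusionSystem (S : Subgroup G)).StronglyClosed T →
      T = ⊥ ∨ T = (S : Subgroup G)) ∧
    (Cfsg.groupFusionSystem (S : Subgroup G)).IsSimple 2 := by
  haveI : Fact (Nat.Prime 2) := ⟨Nat.prime_two⟩
  have hc0 : Nat.card ((syl.subgroupOf good).map ρ) = Nat.card (S : Subgroup G) := by
    rw [Subgroup.card_map_of_injective hρ,
      Nat.card_congr (Subgroup.subgroupOfEquivOfLe syl_le).toEquiv, card_syl, hcard]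
  let S₀ : Sylow 2 G := Sylow.ofCard ((syl.subgroupOf good).map ρ)
    (by rw [hc0, Sylow.card_eq_multiplicity])
  obtain ⟨x, hx⟩ := MulAction.exists_smul_eq G S₀ S
  let ρ' : good →* G := (MulAut.conj x).toMonoidHom.comp ρ
  have hc : ∀ w, ρ' w = x * ρ w * x⁻¹ := fun w => rfl
  refine fusion_aux S ρ' ((MulAut.conj x).injective.comp hρ) ?_ ?_ ?_
  · rw [← hx, ← Subgroup.map_map]
    rfl
  · intro g h1 h2
    have k1 : ∀ e : good, (e : W) ∈ signs →
        ∃ e' : good, x⁻¹ * g * x * ρ e * (x⁻¹ * g * x)⁻¹ = ρ e' := by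
      intro e he
      obtain ⟨e', he'⟩ := h1 e he
      refine ⟨e', ?_⟩
      simp only [hc] at he'
      calc x⁻¹ * g * x * ρ e * (x⁻¹ * g * x)⁻¹ = x⁻¹ * (g * (x * ρ e * x⁻¹) * g⁻¹) * x := by group
        _ = ρ e' := by rw [he']; group
    have k2 : ∀ e : good, (e : W) ∈ signs → ∀ e' : good,
        x⁻¹ * g * x * ρ e * (x⁻¹ * g * x)⁻¹ = ρ e' → (e' : W) ∈ signs := by
      intro e he e' hee
      refine h2 e he e' ?_
      simp only [hc]
      rw [← hee]; group
    obtain ⟨w, hw⟩ := hmono _ k1 k2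
    exact ⟨w, by rw [hc, hw]; group⟩
  · intro π h hp
    obtain ⟨g, hg⟩ := hfuse π h hp
    refine ⟨x * g * x⁻¹, ?_⟩
    simp only [hc]
    rw [← hg]; group

end Cfsg.Agent.Lib.FusionB3
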