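/-
The signed monomial subgroup `2^6:A_7` of the commutator subgroup of a seven-dimensional orthogonal
group with an equal-norm orthogonal basis, when 2 is a nonsquare.
-/
import Cfsg.Agent.Lib.FusionB3.Criterion
import Cfsg.Agent.Lib.Orth52.Spinor
import Cfsg.Agent.Lib.Orth52.Rank
import Cfsg.Agent.Lib.Orth52.Discriminant

set_option autoImplicit false
set_option linter.unusedSectionVars false

namespace Cfsg.Agent.Lib.FusionB3

open Equiv SemidirectProduct Module QuadraticMap
open Cfsg.Agent.Lib.Forms Cfsg.Agent.Lib.Orth52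

variable {F V : Type*} [Field F] [AddCommGroup V] [Module F V]

/-- An orthogonal basis of seven vectors of norm `c`. -/
structure Frame (Q : QuadraticForm F V) where
  b : Basis (Fin 7) F V
  c : F
  hc : c ≠ 0
  h2 : ¬ IsSquare (2 : F)
  hb : ∀ i j, polar Q (b i) (b j) = if i = j then 2 * c else 0

/-- A sign as a scalar. -/
def sgn (u : ℤˣ) : Fˣ := Units.map (Int.castRingHom F).toMonoidHom u

theorem sgn_one : ((sgn (1 : ℤˣ) : Fˣ) : F) = 1 := by simp [sgn]

theorem sgn_neg_one : ((sgn (-1 : ℤˣ) : Fˣ) : F) = -1 := by simp [sgn]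

theorem sgn_mul_self (u : ℤˣ) : ((sgn u : Fˣ) : F) * ((sgn u : Fˣ) : F) = 1 := by
  rcases Int.units_eq_one_or u with rfl | rfl <;> simp [sgn_one, sgn_neg_one]

variable {Q : QuadraticForm F V} (f : Frame Q)

theorem Frame.two_ne (f : Frame Q) : (2 : F) ≠ 0 := fun h => f.h2 (h ▸ IsSquare.zero)

theorem Frame.Q_b (i : Fin 7) : Q (f.b i) = f.c := by
  have h := f.hb i i
  rw [polar_self', if_pos rfl] at h
  exact mul_left_cancel₀ f.two_ne h

theorem Frame.Q_sub {i j : Fin 7} (h : i ≠ j) : Q (f.b i - f.b j) = 2 * f.c := by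
  rw [sub_eq_add_neg, Q_add, polar_neg_right, f.hb, if_neg h, QuadraticMap.map_neg, f.Q_b, f.Q_b]
  ring

theorem Frame.orth_of_basis (g : V ≃ₗ[F] V)
    (h : ∀ i j, polar Q (g (f.b i)) (g (f.b j)) = polar Q (f.b i) (f.b j)) : g ∈ orth Q := by
  intro v
  have hp : polarBilin (Q.comp g.toLinearMap) = polarBilin Q := by
    refine LinearMap.BilinForm.ext_basis f.b fun i j => ?_
    simp only [polarBilin_apply_apply]
    rw [← h i j]
    simp only [polar, QuadraticMap.comp_apply, LinearEquiv.coe_coe, map_add]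
  have h2 := LinearMap.congr_fun (LinearMap.congr_fun hp v) v
  simp only [polarBilin_apply_apply, polar_self', QuadraticMap.comp_apply, LinearEquiv.coe_coe] at h2
  exact mul_left_cancel₀ f.two_ne h2

theorem orth_ext {g h : orth Q} (he : ∀ i, g.1 (f.b i) = h.1 (f.b i)) : g = h :=
  Subtype.ext (f.b.ext' he)

/-- Sign changes. -/
noncomputable def diagO : (Fin 7 → ℤˣ) →* orth Q where
  toFun ε := ⟨f.b.equiv (f.b.unitsSMul fun i => sgn (ε i)) (Equiv.refl _), f.orth_of_basis _ fun i j => by
    simp only [Basis.equiv_apply, Equiv.refl_apply, Basis.unitsSMul_apply, Units.smul_def,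
      polar_smul_left, polar_smul_right, f.hb, smul_eq_mul]
    split
    · subst_vars; rw [← mul_assoc, sgn_mul_self, one_mul]
    · ring⟩
  map_one' := orth_ext f fun i => by
    simp [Basis.equiv_apply, Basis.unitsSMul_apply, Units.smul_def, sgn]
  map_mul' ε δ := orth_ext f fun i => by
    show f.b.equiv _ _ (f.b i) = f.b.equiv _ _ (f.b.equiv _ _ (f.b i))
    simp only [Basis.equiv_apply, Equiv.refl_apply, Basis.unitsSMul_apply, Units.smul_def, map_smul,
      smul_smul, Pi.mul_apply, sgn, map_mul, Units.val_mul, mul_comm]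

theorem diagO_apply (ε : Fin 7 → ℤˣ) (i : Fin 7) :
    (diagO f ε).1 (f.b i) = ((sgn (ε i) : Fˣ) : F) • f.b i := by
  show f.b.equiv _ _ (f.b i) = _
  simp [Basis.equiv_apply, Basis.unitsSMul_apply, Units.smul_def]

/-- Permutations of the basis. -/
noncomputable def permO : Perm (Fin 7) →* orth Q where
  toFun π := ⟨f.b.equiv f.b π, f.orth_of_basis _ fun i j => by
    simp only [Basis.equiv_apply, f.hb, π.injective.eq_iff]⟩
  map_one' := orth_ext f fun i => by simp [Basis.equiv_apply]
  map_mul' π σ := orth_ext f fun i => by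
    show f.b.equiv _ _ (f.b i) = f.b.equiv _ _ (f.b.equiv _ _ (f.b i))
    simp [Basis.equiv_apply]

theorem permO_apply (π : Perm (Fin 7)) (i : Fin 7) : (permO f π).1 (f.b i) = f.b (π i) := by
  show f.b.equiv _ _ (f.b i) = _
  simp [Basis.equiv_apply]

/-- Signed permutations as isometries. -/
noncomputable def monO : W →* orth Q :=
  SemidirectProduct.lift (diagO f) (permO f) fun π => MonoidHom.ext fun ε => by
    simp only [MonoidHom.comp_apply, MulEquiv.coe_toMonoidHom, MulAut.conj_apply]
    rw [eq_mul_inv_iff_mul_eq]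
    refine orth_ext f fun i => ?_
    show (diagO f _).1 ((permO f π).1 (f.b i)) = (permO f π).1 ((diagO f ε).1 (f.b i))
    rw [permO_apply, diagO_apply, diagO_apply, map_smul, permO_apply, arrow_apply]
    simp

theorem monO_apply (w : W) (i : Fin 7) :
    (monO f w).1 (f.b i) = ((sgn (w.left (w.right i)) : Fˣ) : F) • f.b (w.right i) := by
  rw [← inl_left_mul_inr_right w, map_mul, monO, lift_inl, lift_inr]
  show (diagO f _).1 ((permO f _).1 (f.b i)) = _
  simp [permO_apply, diagO_apply]

theorem sgn_inj {u v : ℤˣ} (h : ((sgn u : Fˣ) : F) = ((sgn v : Fˣ) : F)) (h2 : (2 : F) ≠ 0) : u = v := by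
  rcases Int.units_eq_one_or u with rfl | rfl <;> rcases Int.units_eq_one_or v with rfl | rfl <;>
    simp only [sgn_one, sgn_neg_one] at h
  · rfl
  · exact absurd (by linear_combination h) h2
  · exact absurd (by linear_combination -h) h2
  · rfl

theorem monO_injective : Function.Injective (monO f) := by
  intro v w h
  have key : ∀ i, v.right i = w.right i ∧ v.left (v.right i) = w.left (w.right i) := by
    intro i
    have hi := congrArg (fun g : orth Q => f.b.repr (g.1 (f.b i)) (v.right i)) h
    simp only [monO_apply, map_smul, Basis.repr_self, Finsupp.smul_single, smul_eq_mul, mul_one,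
      Finsupp.single_apply, if_true] at hi
    by_cases e : w.right i = v.right i
    · rw [if_pos e] at hi
      exact ⟨e.symm, sgn_inj hi f.two_ne⟩
    · rw [if_neg e] at hi
      exact absurd hi (Units.ne_zero _)
  have hr : v.right = w.right := Equiv.ext fun i => (key i).1
  refine SemidirectProduct.ext (funext fun j => ?_) hr
  have := (key (v.right⁻¹ j)).2
  rw [hr] at this
  simpa using this

theorem monO_single (i : Fin 7) :
    monO f (inl (Pi.mulSingle i (-1))) = orefl Q (f.b i) := by
  refine orth_ext f fun j => ?_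
  rw [monO_apply, left_inl, right_inl, Perm.one_apply]
  show _ = refl Q (f.b i) (f.b j)
  rcases eq_or_ne j i with rfl | hji
  · rw [Pi.mulSingle_eq_same, sgn_neg_one, neg_one_smul, refl_self Q (by rw [f.Q_b]; exact f.hc)]
  · rw [Pi.mulSingle_eq_of_ne hji, sgn_one, one_smul, refl_fix Q (by rw [f.hb, if_neg hji.symm])]

theorem monO_swap {i j : Fin 7} (h : i ≠ j) :
    monO f (inr (swap i j)) = orefl Q (f.b i - f.b j) := by
  refine orth_ext f fun k => ?_
  rw [monO_apply, left_inr, right_inr, Pi.one_apply, sgn_one, one_smul]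
  show _ = refl Q (f.b i - f.b j) (f.b k)
  rw [Cfsg.Agent.Lib.Forms.refl_apply, f.Q_sub h, polar_sub_left, f.hb, f.hb]
  have h2c : 2 * f.c ≠ 0 := mul_ne_zero f.two_ne f.hc
  rcases eq_or_ne k i with rfl | hki
  · rw [swap_apply_left, if_pos rfl, if_neg h.symm, sub_zero, inv_mul_cancel₀ h2c, one_smul]
    abel
  rcases eq_or_ne k j with rfl | hkj
  · rw [swap_apply_right, if_neg h, if_pos rfl, zero_sub, mul_neg, inv_mul_cancel₀ h2c, neg_one_smul]
    abel
  · rw [swap_apply_of_ne_of_ne hki hkj, if_neg (Ne.symm hki), if_neg (Ne.symm hkj)]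
    simp

/-- A character of the orthogonal group on signed permutations. -/
theorem char_monO {M : Type*} [CommGroup M] (K : orth Q →* M) (s s' : M)
    (hs : ∀ i, K (orefl Q (f.b i)) = s)
    (hs' : ∀ i j, i ≠ j → K (orefl Q (f.b i - f.b j)) = s') (w : W) :
    K (monO f w) = (if ∏ i, w.left i = 1 then 1 else s) *
      (if Perm.sign w.right = 1 then 1 else s') := by
  have hss : ∀ v, K (orefl Q v) * K (orefl Q v) = 1 := fun v => by
    rw [← map_mul, show orefl Q v * orefl Q v = 1 from Subtype.ext (refl_mul_self Q v), map_one]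
  have hs1 : s * s = 1 := by rw [← hs 0]; exact hss _
  have hs1' : s' * s' = 1 := by rw [← hs' 0 1 (by decide)]; exact hss _
  let g : ℤˣ →* M :=
    { toFun := fun u => if u = 1 then 1 else s
      map_one' := if_pos rfl
      map_mul' := fun a b => by
        rcases Int.units_eq_one_or a with rfl | rfl <;> rcases Int.units_eq_one_or b with rfl | rfl <;>
          simp [hs1] }
  have hl : ∀ ε : Fin 7 → ℤˣ, K (monO f (inl ε)) = g (∏ i, ε i) := by
    intro ε
    conv_lhs => rw [← Finset.univ_prod_mulSingle ε]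
    rw [map_prod g]
    simp only [← MonoidHom.comp_apply K, ← MonoidHom.comp_apply (K.comp (monO f))]
    rw [map_prod]
    refine Finset.prod_congr rfl fun i _ => ?_
    rcases Int.units_eq_one_or (ε i) with e | e
    · rw [e, Pi.mulSingle_one, map_one]; exact (map_one g).symm
    · rw [e, MonoidHom.comp_apply, MonoidHom.comp_apply, monO_single, hs]
      simp [g]
  have hr : ∀ π : Perm (Fin 7), K (monO f (inr π)) = if Perm.sign π = 1 then 1 else s' := by
    intro π
    induction π using Perm.swap_induction_on with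
    | one => simp
    | swap_mul τ x y hxy ih =>
      rw [map_mul inr, map_mul, map_mul, monO_swap f hxy, hs' x y hxy, ih, map_mul,
        Perm.sign_swap hxy]
      rcases Int.units_eq_one_or (Perm.sign τ) with e | e <;> simp [e, hs1']
  conv_lhs => rw [← inl_left_mul_inr_right w]
  rw [map_mul, map_mul, hl, hr]
  rfl

variable [Finite F] [FiniteDimensional F V]

theorem Frame.finrank_eq (f : Frame Q) : finrank F V = 7 := by
  rw [Module.finrank_eq_card_basis f.b, Fintype.card_fin]

theorem Frame.two_le (f : Frame Q) : 2 ≤ finrank F V := by rw [f.finrank_eq]; omega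

theorem monO_mem_iff (hQ : Nondeg Q) (w : W) :
    monO f w ∈ commutator (orth Q) ↔ w ∈ good := by
  classical
  haveI := Module.finite_of_finite F (M := V)
  haveI := Fintype.ofFinite F
  rw [mem_commutator_iff_spin hQ f.two_ne f.two_le]
  have hQb : ∀ i, Q (f.b i) ≠ 0 := fun i => by rw [f.Q_b]; exact f.hc
  have h2c : 2 * f.c ≠ 0 := mul_ne_zero f.two_ne f.hc
  have hQs : ∀ i j, i ≠ j → Q (f.b i - f.b j) ≠ 0 := fun i j h => by rw [f.Q_sub h]; exact h2c
  have hD := char_monO f (dicksonHom hQ (Or.inl (exists_ne01 f.two_ne))) (Multiplicative.ofAdd 1)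
    (Multiplicative.ofAdd 1) (fun i => dicksonHom_orefl hQ _ (hQb i))
    (fun i j h => dicksonHom_orefl hQ _ (hQs i j h)) w
  set sp := spinHom hQ f.two_ne f.two_le
  have hsp : ∀ z : V, Q z ≠ 0 → sp (orefl Q z) = if IsSquare (Q z) then 1 else -1 := by
    intro z hz
    split
    · next h => exact (spinHom_orefl_eq_one_iff hQ f.two_ne f.two_le hz).2 h
    · next h =>
      exact (Int.units_eq_one_or _).resolve_left
        (fun e => h ((spinHom_orefl_eq_one_iff hQ f.two_ne f.two_le hz).1 e))
  have hS := char_monO f sp (if IsSquare f.c then 1 else -1) (if IsSquare (2 * f.c) then 1 else -1)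
    (fun i => by rw [hsp _ (hQb i), f.Q_b]) (fun i j h => by rw [hsp _ (hQs i j h), f.Q_sub h]) w
  have hd : dickson Q (monO f w) = 0 ↔ dicksonHom hQ (Or.inl (exists_ne01 f.two_ne)) (monO f w) = 1 :=
    ⟨fun h => congrArg Multiplicative.ofAdd h, fun h => Multiplicative.ofAdd.injective h⟩
  have hxor : IsSquare (2 * f.c) ↔ ¬ IsSquare f.c := by
    have hchar : ringChar F ≠ 2 := fun h => f.two_ne (by
      have := ringChar.Nat.cast_ringChar (R := F)
      rw [h] at this; exact_mod_cast this)
    by_cases hsc : IsSquare f.c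
    · simp only [hsc, not_true, iff_false]
      intro h
      exact f.h2 (by simpa [mul_div_assoc, f.hc] using h.div hsc)
    · simp only [hsc, not_false_eq_true, iff_true]
      exact (isSquare_mul_nonsquare hchar f.two_ne f.hc hsc).2 f.h2
  rw [hd, hD, hS]
  change _ ↔ (∏ i, w.left i = 1 ∧ Perm.sign w.right = 1)
  by_cases hp : ∏ i, w.left i = 1 <;> by_cases hq : Perm.sign w.right = 1 <;>
    by_cases hsc : IsSquare f.c <;> simp [hp, hq, hsc, hxor]

theorem monO_mem (hQ : Nondeg Q) (w : good) : monO f w.1 ∈ commutator (orth Q) :=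
  (monO_mem_iff f hQ w.1).2 w.2

/-- The monomial subgroup of the commutator subgroup. -/
noncomputable def rho (hQ : Nondeg Q) : good →* commutator (orth Q) :=
  ((monO f).comp good.subtype).codRestrict _ (monO_mem f hQ)

theorem rho_injective (hQ : Nondeg Q) : Function.Injective (rho f hQ) := fun _ _ h =>
  Subtype.ext (monO_injective f (congrArg Subtype.val h))

/-- An element normalising the sign changes is monomial. -/
theorem rho_mono (hQ : Nondeg Q) (g : commutator (orth Q))
    (h1 : ∀ e : good, (e : W) ∈ signs → ∃ e' : good, g * rho f hQ e * g⁻¹ = rho f hQ e')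
    (h2 : ∀ e : good, (e : W) ∈ signs → ∀ e' : good, g * rho f hQ e * g⁻¹ = rho f hQ e' →
      (e' : W) ∈ signs) :
    g ∈ (rho f hQ).range := by
  classical
  let E := signs.subgroupOf good
  choose σ hσ using fun e : E => h1 e.1 e.2
  have hσE : ∀ e : E, σ e ∈ E := fun e => h2 e.1 e.2 _ (hσ e)
  let τ : E → E := fun e => ⟨σ e, hσE e⟩
  have hτ : Function.Surjective τ := by
    refine Finite.surjective_of_injective fun a b hab => ?_
    have e : σ a = σ b := congrArg Subtype.val hab
    have := (hσ a).trans ((congrArg _ e).trans (hσ b).symm)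
    exact Subtype.ext (rho_injective f hQ (mul_left_cancel (mul_right_cancel this)))
  have heig : ∀ (i : Fin 7) (e' : E), ∃ u : F,
      (monO f e'.1.1).1 (g.1.1 (f.b i)) = u • g.1.1 (f.b i) := by
    intro i e'
    obtain ⟨e, he⟩ := hτ e'
    refine ⟨((sgn (e.1.1.left i) : Fˣ) : F), ?_⟩
    have hh := congrArg (fun x : commutator (orth Q) => x.1.1 (g.1.1 (f.b i))) (hσ e)
    have he' : σ e = e'.1 := congrArg Subtype.val he
    rw [he'] at hh
    change g.1.1 ((monO f e.1.1).1 (g.1.1.symm (g.1.1 (f.b i)))) =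
      (monO f e'.1.1).1 (g.1.1 (f.b i)) at hh
    have he1 : (e.1 : W).right = 1 := (mem_signs.1 e.2).2
    rw [← hh, LinearEquiv.symm_apply_apply, monO_apply, he1, Perm.one_apply, map_smul]
  have hdiag : ∀ i j k, f.b.repr (g.1.1 (f.b i)) j ≠ 0 → f.b.repr (g.1.1 (f.b i)) k ≠ 0 → j = k := by
    intro i j k hj hk
    by_contra hjk
    obtain ⟨l, -, -, hlj', hlk, -, -, -, -⟩ := exists_two_others j k k
    have hm : (inl (pairSign j l) : W) ∈ signs := inl_mem_signs (prod_pairSign j l hlj'.symm)
    obtain ⟨u, hu⟩ := heig i ⟨⟨inl (pairSign j l), syl_le (signs_le hm)⟩, hm⟩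
    have hco : ∀ t, ((sgn (pairSign j l t) : Fˣ) : F) * f.b.repr (g.1.1 (f.b i)) t =
        u * f.b.repr (g.1.1 (f.b i)) t := by
      intro t
      have ht := congrArg (fun v => f.b.repr v t) hu
      simp only [map_smul, Finsupp.smul_apply, smul_eq_mul] at ht
      rw [← ht]
      conv_rhs => rw [← f.b.sum_repr (g.1.1 (f.b i))]
      simp only [map_sum, map_smul, monO_apply, left_inl, right_inl, Perm.one_apply, smul_smul,
        Basis.repr_self, Finsupp.coe_finsetSum, Finset.sum_apply, Finsupp.smul_apply, smul_eq_mul]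
      rw [Finset.sum_eq_single t (fun s _ hs => by rw [Finsupp.single_eq_of_ne hs.symm, mul_zero])
        (by simp)]
      simp [mul_comm]
    have a := mul_right_cancel₀ hj (hco j)
    have b := mul_right_cancel₀ hk (hco k)
    rw [← a] at b
    have hkl : ¬(k = j ∨ k = l) := by
      rintro (h | h)
      · exact hjk h.symm
      · exact hlk h.symm
    simp only [pairSign, if_neg hkl, true_or, if_true, sgn_one, sgn_neg_one] at b
    exact f.two_ne (by linear_combination b)
  have hne : ∀ i, ∃ j, f.b.repr (g.1.1 (f.b i)) j ≠ 0 := by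
    intro i
    by_contra h
    push Not at h
    refine f.b.ne_zero i (g.1.1.injective ?_)
    rw [map_zero]
    exact f.b.ext_elem fun t => by rw [h t]; simp
  choose π hπ using hne
  let u : Fin 7 → F := fun i => f.b.repr (g.1.1 (f.b i)) (π i)
  have hgb : ∀ i, g.1.1 (f.b i) = u i • f.b (π i) := by
    intro i
    refine f.b.ext_elem fun t => ?_
    rw [map_smul, Basis.repr_self, Finsupp.smul_single, smul_eq_mul, mul_one]
    rcases eq_or_ne t (π i) with rfl | ht
    · rw [Finsupp.single_eq_same]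
    · rw [Finsupp.single_eq_of_ne ht]
      by_contra h
      exact ht (hdiag i t (π i) h (hπ i))
  have hpol : ∀ i j, u i * u j * (if π i = π j then 2 * f.c else 0) =
      if i = j then 2 * f.c else 0 := by
    intro i j
    have h := orth_polar g.1.2 (f.b i) (f.b j)
    rw [hgb, hgb, polar_smul_left, polar_smul_right, f.hb, f.hb, smul_eq_mul, smul_eq_mul] at h
    rw [← h]; ring
  have h2c : 2 * f.c ≠ 0 := mul_ne_zero f.two_ne f.hc
  have hinj : Function.Injective π := by
    intro i j hij
    by_contra h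
    have := hpol i j
    rw [if_pos hij, if_neg h] at this
    exact mul_ne_zero (mul_ne_zero (hπ i) (hπ j)) h2c this
  have hu : ∀ i, u i = 1 ∨ u i = -1 := fun i => by
    have := hpol i i
    rw [if_pos rfl, if_pos rfl] at this
    exact mul_self_eq_one_iff.1 (mul_right_cancel₀ h2c (this.trans (one_mul _).symm))
  let p : Perm (Fin 7) := Equiv.ofBijective π ⟨hinj, Finite.surjective_of_injective hinj⟩
  let w : W := ⟨fun j => if u (p.symm j) = 1 then 1 else -1, p⟩
  have hw : monO f w = g.1 := by
    refine orth_ext f fun i => ?_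
    rw [monO_apply, hgb]
    show ((sgn (if u (p.symm (p i)) = 1 then 1 else -1) : Fˣ) : F) • f.b (π i) = _
    rw [Equiv.symm_apply_apply]
    rcases hu i with h | h
    · rw [if_pos h, sgn_one, h]
    · rw [if_neg (by rw [h]; intro e; exact f.two_ne (by linear_combination -e)), sgn_neg_one, h]
  exact ⟨⟨w, (monO_mem_iff f hQ w).1 (hw ▸ g.2)⟩, Subtype.ext hw⟩

/-- A sign change of two coordinates is conjugate to double transpositions. -/
theorem rho_fuse (hQ : Nondeg Q) {i j k l : Fin 7} (hij : i ≠ j) (hkl : k ≠ l) (hik : i ≠ k)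
    (hil : i ≠ l) (hjk : j ≠ k) (hjl : j ≠ l) (h : swap i j * swap k l ∈ d8) :
    ∃ g : commutator (orth Q), g * rho f hQ sign01 * g⁻¹ = rho f hQ (dbl _ h) := by
  classical
  haveI := Module.finite_of_finite F (M := V)
  haveI := Fintype.ofFinite F
  have h2 := f.two_ne
  set x := f.b i - f.b j
  set y := f.b k - f.b l
  have hxy : polar Q x y = 0 := by
    simp only [x, y, polar_sub_left, polar_sub_right, f.hb, hik, hil, hjk, hjl, if_false, sub_zero]
  have hQx : Q x = 2 * f.c := f.Q_sub hij
  have hQy : Q y = 2 * f.c := f.Q_sub hkl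
  let u := (2 : F)⁻¹ • (x + y)
  let v := (2 : F)⁻¹ • (x - y)
  have hQu : Q u = f.c := by
    simp only [u, Q_smul, Q_add, hQx, hQy, hxy]; field_simp; ring
  have hQv : Q v = f.c := by
    simp only [v, Q_smul, sub_eq_add_neg x, Q_add, QuadraticMap.map_neg, polar_neg_right, hQx, hQy,
      hxy]
    field_simp; ring
  have huv : polar Q u v = 0 := by
    simp only [u, v, polar_smul_left, polar_smul_right, polar_add_left, polar_sub_right, polar_self',
      polar_comm Q y x, hQx, hQy, hxy]
    simp
  have hli : ∀ s : Fin 2 → V, (∀ a, Q (s a) = f.c) → polar Q (s 0) (s 1) = 0 →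
      LinearIndependent F s := by
    intro s hs h01
    rw [Fintype.linearIndependent_iff]
    intro r hr a
    have h0 := congrArg (polar Q (s a)) hr
    rw [Fin.sum_univ_two, polar_zero_right, polar_add_right, polar_smul_right, polar_smul_right] at h0
    fin_cases a
    · simpa [polar_self', hs, h01, h2, f.hc] using h0
    · simpa [polar_self', hs, h01, polar_comm Q (s 1) (s 0), h2, f.hc] using h0
  obtain ⟨g, hg, hgv⟩ := witt_orth hQ ![f.b 0, f.b 1] ![u, v]
    (hli _ (by intro a; fin_cases a <;> simp [f.Q_b]) (by simp [f.hb]))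
    (hli _ (by intro a; fin_cases a <;> simp [hQu, hQv]) (by simp [huv]))
    (by intro a; fin_cases a <;> simp [f.Q_b, hQu, hQv])
    (by intro a b; fin_cases a <;> fin_cases b <;>
      simp [f.hb, polar_self', f.Q_b, hQu, hQv, huv, polar_comm Q v u])
  have h0 : g (f.b 0) = u := by simpa using hgv 0
  have h1 : g (f.b 1) = v := by simpa using hgv 1
  have hQ2 : Q (f.b 2) ≠ 0 := by rw [f.Q_b]; exact f.hc
  have hQ23 : Q (f.b 2 - f.b 3) ≠ 0 := by rw [f.Q_sub (by decide)]; exact mul_ne_zero h2 f.hc
  have hfix2 : ∀ a : Fin 7, a ≠ 2 → (orefl Q (f.b 2)).1 (f.b a) = f.b a := fun a ha =>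
    refl_fix Q (by rw [f.hb, if_neg (Ne.symm ha)])
  have hfix23 : ∀ a : Fin 7, a ≠ 2 → a ≠ 3 → (orefl Q (f.b 2 - f.b 3)).1 (f.b a) = f.b a :=
    fun a ha ha' => refl_fix Q (by
      rw [polar_sub_left, f.hb, f.hb, if_neg (Ne.symm ha), if_neg (Ne.symm ha'), sub_zero])
  obtain ⟨g₁, hd, hg₁0, hg₁1⟩ : ∃ g₁ : orth Q, dickson Q g₁ = 0 ∧ g₁.1 (f.b 0) = u ∧
      g₁.1 (f.b 1) = v := by
    by_cases hd : dickson Q ⟨g, hg⟩ = 0
    · exact ⟨⟨g, hg⟩, hd, h0, h1⟩
    · refine ⟨⟨g, hg⟩ * orefl Q (f.b 2), ?_, ?_, ?_⟩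
      · rw [dickson_mul_orefl hQ _ hQ2]
        revert hd; generalize dickson Q ⟨g, hg⟩ = t; revert t; decide
      · show g ((orefl Q (f.b 2)).1 (f.b 0)) = u
        rw [hfix2 0 (by decide), h0]
      · show g ((orefl Q (f.b 2)).1 (f.b 1)) = v
        rw [hfix2 1 (by decide), h1]
  obtain ⟨g₂, hg₂, hg₂0, hg₂1⟩ : ∃ g₂ ∈ commutator (orth Q), g₂.1 (f.b 0) = u ∧ g₂.1 (f.b 1) = v := by
    by_cases hs : spinHom hQ h2 f.two_le g₁ = 1
    · exact ⟨g₁, (mem_commutator_iff_spin hQ h2 f.two_le g₁).2 ⟨hd, hs⟩, hg₁0, hg₁1⟩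
    · have hvs : ∀ z ∈ [f.b 2, f.b 2 - f.b 3], Q z ≠ 0 := by simp [hQ2, hQ23]
      have hsp : spinHom hQ h2 f.two_le (oreflProd Q [f.b 2, f.b 2 - f.b 3]) = -1 := by
        refine (Int.units_eq_one_or _).resolve_left fun e => f.h2 ?_
        have := (spinHom_oreflProd_eq_one_iff hQ h2 f.two_le _ hvs).1 e
        simp only [List.map_cons, List.map_nil, List.prod_cons, List.prod_nil, mul_one, f.Q_b,
          f.Q_sub (show (2 : Fin 7) ≠ 3 by decide)] at this
        have h' := this.div (IsSquare.mul_self f.c)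
        have he : f.c * (2 * f.c) / (f.c * f.c) = 2 := by have := f.hc; field_simp
        rwa [he] at h'
      refine ⟨g₁ * oreflProd Q [f.b 2, f.b 2 - f.b 3],
        (mem_commutator_iff_spin hQ h2 f.two_le _).2 ⟨?_, ?_⟩, ?_, ?_⟩
      · rw [dickson_mul hQ (Or.inl (exists_ne01 h2)), hd, dickson_oreflProd hQ _ hvs, zero_add]
        show ((2 : ℕ) : ZMod 2) = 0
        decide
      · rw [map_mul, (Int.units_eq_one_or _).resolve_left hs, hsp]; decide
      · show g₁.1 ((orefl Q (f.b 2)).1 ((orefl Q (f.b 2 - f.b 3)).1 (f.b 0))) = u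
        rw [hfix23 0 (by decide) (by decide), hfix2 0 (by decide), hg₁0]
      · show g₁.1 ((orefl Q (f.b 2)).1 ((orefl Q (f.b 2 - f.b 3)).1 (f.b 1))) = v
        rw [hfix23 1 (by decide) (by decide), hfix2 1 (by decide), hg₁1]
  refine ⟨⟨g₂, hg₂⟩, Subtype.ext ?_⟩
  show g₂ * monO f (inl (pairSign 0 1)) * g₂⁻¹ = monO f (inr (swap i j * swap k l))
  have hpair : (pairSign 0 1 : Fin 7 → ℤˣ) = Pi.mulSingle 0 (-1) * Pi.mulSingle 1 (-1) := by
    decide +kernel
  rw [hpair, map_mul inl, map_mul inr, map_mul, map_mul, monO_single, monO_single, monO_swap f hij,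
    monO_swap f hkl]
  rw [show g₂ * (orefl Q (f.b 0) * orefl Q (f.b 1)) * g₂⁻¹ =
    (g₂ * orefl Q (f.b 0) * g₂⁻¹) * (g₂ * orefl Q (f.b 1) * g₂⁻¹) by group]
  have hconj : ∀ z, g₂ * orefl Q z * g₂⁻¹ = orefl Q (g₂.1 z) := fun z =>
    Subtype.ext (refl_conj g₂.2 z)
  rw [hconj, hconj, hg₂0, hg₂1]
  refine orth_ext f fun t => ?_
  show refl Q u (refl Q v (f.b t)) = refl Q x (refl Q y (f.b t))
  simp only [Cfsg.Agent.Lib.Forms.refl_apply, polar_sub_right, polar_smul_right, huv, hxy, smul_eq_mul, mul_zero,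
    sub_zero, hQu, hQv, hQx, hQy]
  simp only [u, v, polar_smul_left, polar_add_left, polar_sub_left, smul_eq_mul, smul_add, smul_sub,
    smul_smul]
  match_scalars <;> field_simp <;> ring

/-- The frame version of the fusion theorem. -/
theorem fusion_frame (f : Frame Q) (hQ : Nondeg Q) {G : Type*} [Group G] [Finite G]
    (e : G ≃* commutator (orth Q)) (S : Sylow 2 G) (hcard : Nat.card (S : Subgroup G) = 512) :
    (Cfsg.groupFusionSystem (S : Subgroup G)).autGroup (S : Subgroup G) = Cfsg.Inn ↥(S : Subgroup G) ∧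
    (∀ T : Subgroup G, (Cfsg.groupFusionSystem (S : Subgroup G)).StronglyClosed T →
      T = ⊥ ∨ T = (S : Subgroup G)) ∧
    (Cfsg.groupFusionSystem (S : Subgroup G)).IsSimple 2 := by
  refine fusion S hcard (e.symm.toMonoidHom.comp (rho f hQ))
    (e.symm.injective.comp (rho_injective f hQ)) ?_ ?_
  · intro g h1 h2
    obtain ⟨w, hw⟩ := rho_mono f hQ (e g)
      (fun x hx => (h1 x hx).imp fun x' hx' => e.symm.injective (by simpa using hx'))
      (fun x hx x' hx' => h2 x hx x' (by
        have := congrArg e.symm hx'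
        simpa using this))
    exact ⟨w, by simp [hw]⟩
  · intro π h hp
    have key : ∃ g : commutator (orth Q), g * rho f hQ sign01 * g⁻¹ = rho f hQ (dbl π h) := by
      rcases hp with rfl | rfl | rfl
      · exact rho_fuse f hQ (by decide) (by decide) (by decide) (by decide) (by decide) (by decide) h
      · exact rho_fuse f hQ (by decide) (by decide) (by decide) (by decide) (by decide) (by decide) h
      · exact rho_fuse f hQ (by decide) (by decide) (by decide) (by decide) (by decide) (by decide) h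
    obtain ⟨g, hg⟩ := key
    refine ⟨e.symm g, ?_⟩
    have := congrArg e.symm hg
    simpa using this

end Cfsg.Agent.Lib.FusionB3
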